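import Mathlib
import Groth.Prelude
import Groth.Agent.Lib.Helper2.Gor.CIGor
import Groth.Agent.Lib.Helper4.DimFT1

/-!
# Equidimensional Cohen–Macaulay finite type algebras: dimension drop gives regular sequences (S9154)
-/

set_option autoImplicit false
set_option linter.unusedSectionVars false
set_option linter.unusedVariables false
set_option linter.unusedSimpArgs false
set_option linter.style.haveILetI false
set_option maxHeartbeats 400000

namespace Groth.Agent.Lib.Helper6.CMEq

universe u

section Height

theorem height_le_height_comap_of_surjective {R S : Type*} [CommRing R] [CommRing S]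
    (f : R →+* S) (hf : Function.Surjective f) (Q : Ideal S) [hQ : Q.IsPrime] :
    Q.height ≤ (Q.comap f).height := by
  have hmono : StrictMono (PrimeSpectrum.comap f) := by
    intro a b hab
    have h1 : a.asIdeal < b.asIdeal := hab
    have h2 : a.asIdeal.comap f ≤ b.asIdeal.comap f := Ideal.comap_mono h1.le
    have h3 : a.asIdeal.comap f ≠ b.asIdeal.comap f := by
      intro h
      exact h1.ne (Ideal.comap_injective_of_surjective f hf h)
    have h4 : (PrimeSpectrum.comap f a).asIdeal < (PrimeSpectrum.comap f b).asIdeal :=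
      lt_of_le_of_ne h2 h3
    exact h4
  have h1 := PrimeSpectrum.height_eq_orderHeight (⟨Q, hQ⟩ : PrimeSpectrum S)
  have h2 := PrimeSpectrum.height_eq_orderHeight (PrimeSpectrum.comap f ⟨Q, hQ⟩)
  change Q.height = _ at h1
  change (Q.comap f).height = _ at h2
  rw [h1, h2]
  exact Order.height_le_height_apply_of_strictMono _ hmono _

end Height

section Main

/-- In an equidimensional finite type algebra, `d ≤ ht P + dim S/P`. -/
theorem le_height_add_dim (k S : Type u) [Field k] [CommRing S] [Algebra k S]
    [Algebra.FiniteType k S] (d : ℕ)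
    (heq : ∀ p ∈ minimalPrimes S, ringKrullDim (S ⧸ p) = d) (P : Ideal S) [hP : P.IsPrime] :
    (d : WithBot ℕ∞) ≤ (P.height : WithBot ℕ∞) + ringKrullDim (S ⧸ P) := by
  obtain ⟨p, hp, hpP⟩ := Ideal.exists_minimalPrimes_le (bot_le : (⊥ : Ideal S) ≤ P)
  haveI : p.IsPrime := hp.1.1
  have hdp : ringKrullDim (S ⧸ p) = d := heq p hp
  set P' : Ideal (S ⧸ p) := P.map (Ideal.Quotient.mk p) with hP'
  have hker : RingHom.ker (Ideal.Quotient.mk p) ≤ P := by
    rw [Ideal.mk_ker]; exact hpP
  haveI hP'prime : P'.IsPrime :=
    Ideal.map_isPrime_of_surjective Ideal.Quotient.mk_surjective hker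
  have hcomap : P'.comap (Ideal.Quotient.mk p) = P := by
    rw [hP', Ideal.comap_map_of_surjective _ Ideal.Quotient.mk_surjective,
      ← RingHom.ker_eq_comap_bot, Ideal.mk_ker]
    exact sup_eq_left.2 hpP
  have hform := Groth.Agent.Lib.Helper4.DimFT1.height_add_dim_quotient k (S ⧸ p) P'
  have hiso : ringKrullDim ((S ⧸ p) ⧸ P') = ringKrullDim (S ⧸ P) :=
    ringKrullDim_eq_of_ringEquiv (DoubleQuot.quotQuotEquivQuotOfLE hpP)
  have hht : P'.height ≤ P.height := by
    have := height_le_height_comap_of_surjective (Ideal.Quotient.mk p)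
      Ideal.Quotient.mk_surjective P'
    rwa [hcomap] at this
  rw [hiso, hdp] at hform
  rw [← hform]
  gcongr
  exact_mod_cast hht

theorem main (k S : Type u) [Field k] [CommRing S] [Algebra k S]
    [Algebra.FiniteType k S] [hCM : LocCoh.IsCohenMacaulayRing S] (d : ℕ)
    (heq : ∀ p ∈ minimalPrimes S, ringKrullDim (S ⧸ p) = d) (f : List S) (hi : f.length ≤ d)
    (hne : Ideal.ofList f ≠ ⊤)
    (hle : ringKrullDim (S ⧸ Ideal.ofList f) ≤ ((d - f.length : ℕ) : WithBot ℕ∞)) :
    ringKrullDim (S ⧸ Ideal.ofList f) = ((d - f.length : ℕ) : WithBot ℕ∞) ∧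
      ∀ (q : Ideal S) [q.IsPrime], Ideal.ofList f ≤ q →
        RingTheory.Sequence.IsRegular (Localization.AtPrime q)
          (f.map (algebraMap S (Localization.AtPrime q))) := by
  haveI : IsNoetherianRing S := Algebra.FiniteType.isNoetherianRing k S
  set I := Ideal.ofList f with hI
  -- dimension of S/P for primes containing I
  have hdimP : ∀ (P : Ideal S), I ≤ P →
      ringKrullDim (S ⧸ P) ≤ ((d - f.length : ℕ) : WithBot ℕ∞) := by
    intro P hIP
    exact le_trans (ringKrullDim_le_of_surjective (Ideal.Quotient.factor hIP)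
      (Ideal.Quotient.factor_surjective hIP)) hle
  -- height of I
  have hht : (f.length : ℕ∞) ≤ I.height := by
    rw [Ideal.height_eq_inf_minimalPrimes]
    refine le_iInf₂ fun P hP => ?_
    haveI : P.IsPrime := hP.1.1
    have h1 := le_height_add_dim k S d heq P
    have h2 := hdimP P hP.1.2
    by_contra hlt
    rw [not_le] at hlt
    obtain ⟨h, hh⟩ := ENat.ne_top_iff_exists.1 (ne_top_of_lt hlt)
    rw [← hh] at hlt h1
    have hlt' : h < f.length := by exact_mod_cast hlt
    have h3 : (d : WithBot ℕ∞) ≤ ((h : ℕ∞) : WithBot ℕ∞) + ((d - f.length : ℕ) : WithBot ℕ∞) :=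
      le_trans h1 (by gcongr)
    have h4 : d ≤ h + (d - f.length) := by
      have h4' : ((d : ℕ∞) : WithBot ℕ∞) ≤ (((h + (d - f.length) : ℕ) : ℕ∞) : WithBot ℕ∞) := by
        push_cast
        exact h3
      have h5 := WithBot.coe_le_coe.1 h4'
      exact_mod_cast h5
    omega
  refine ⟨le_antisymm hle ?_, ?_⟩
  · obtain ⟨P, hP⟩ := Ideal.nonempty_minimalPrimes hne
    haveI : P.IsPrime := hP.1.1
    have hKrull : P.height ≤ (f.length : ℕ∞) := by
      have hfin : ({r | r ∈ f} : Set S).Finite := List.finite_toSet f
      have h1 := Ideal.height_le_card_of_mem_minimalPrimes_span hfin hP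
      refine le_trans h1 ?_
      have h2 : ({r | r ∈ f} : Set S).ncard ≤ f.length := by
        classical
        have : ({r | r ∈ f} : Set S) = (f.toFinset : Set S) := by ext; simp
        rw [this, Set.ncard_coe_finset]
        exact List.toFinset_card_le f
      exact_mod_cast h2
    have h1 := le_height_add_dim k S d heq P
    have h2 : ringKrullDim (S ⧸ P) ≤ ringKrullDim (S ⧸ I) :=
      ringKrullDim_le_of_surjective (Ideal.Quotient.factor hP.1.2)
        (Ideal.Quotient.factor_surjective hP.1.2)
    refine le_trans ?_ h2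
    obtain ⟨h, hh⟩ := ENat.ne_top_iff_exists.1 (ne_top_of_le_ne_top (ENat.natCast_ne_top _) hKrull)
    rw [← hh] at hKrull h1
    have hKrull' : h ≤ f.length := by exact_mod_cast hKrull
    generalize ringKrullDim (S ⧸ P) = x at h1 ⊢
    induction x using WithBot.recBotCoe with
    | bot => simp at h1
    | coe x =>
      induction x using ENat.recTopCoe with
      | top => exact le_top
      | coe m =>
        have h4 : d ≤ h + m := by
          have h4' : ((d : ℕ∞) : WithBot ℕ∞) ≤ (((h + m : ℕ) : ℕ∞) : WithBot ℕ∞) := by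
            push_cast
            exact h1
          have h5 := WithBot.coe_le_coe.1 h4'
          exact_mod_cast h5
        have h5 : d - f.length ≤ m := by omega
        have h6 : (((d - f.length : ℕ) : ℕ∞) : WithBot ℕ∞) ≤ ((m : ℕ∞) : WithBot ℕ∞) :=
          WithBot.coe_le_coe.2 (by exact_mod_cast h5)
        exact h6
  · intro q hq hIq
    have hweak := Groth.Agent.Helper2.Gor.isWeaklyRegular_localization_of_height hCM f hht q hIq
    refine ⟨hweak, ?_⟩
    intro htop
    have h1 : Ideal.ofList (f.map (algebraMap S (Localization.AtPrime q))) ≤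
        IsLocalRing.maximalIdeal (Localization.AtPrime q) := by
      rw [← Ideal.map_ofList, Ideal.map_le_iff_le_comap]
      intro x hx
      exact (IsLocalization.AtPrime.to_map_mem_maximal_iff _ q x).mpr (hIq hx)
    have h2 : (Ideal.ofList (f.map (algebraMap S (Localization.AtPrime q))) •
        (⊤ : Submodule (Localization.AtPrime q) (Localization.AtPrime q))) =
        Ideal.ofList (f.map (algebraMap S (Localization.AtPrime q))) := by
      rw [smul_eq_mul, Ideal.mul_top]
    rw [h2] at htop
    rw [← htop] at h1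
    exact (IsLocalRing.maximalIdeal.isMaximal _).ne_top (top_le_iff.1 h1)

end Main

end Groth.Agent.Lib.Helper6.CMEq
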